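import Mathlib

/-!
# Flatness over a base ring and (faithfully) flat base change of the module structure (helper8)

`R → S → T` ring maps, `P` an `S`-module.  If `T` is flat over `S` and `P` is flat over `R` then
`T ⊗[S] P` is flat over `R`; if `T` is faithfully flat over `S` the converse holds.
-/

set_option autoImplicit false
universe u

namespace Groth.Agent.H8.FlatCA

open TensorProduct

section L1

variable {R S T : Type u} [CommRing R] [CommRing S] [CommRing T] [Algebra R S] [Algebra S T]
  [Algebra R T] [IsScalarTower R S T]
  {P : Type u} [AddCommGroup P] [Module S P] [Module R P] [IsScalarTower R S P]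

theorem assoc_lTensor {K L : Type u} [AddCommGroup K] [Module R K] [AddCommGroup L] [Module R L]
    (f : K →ₗ[R] L) (x : (T ⊗[S] P) ⊗[R] K) :
    AlgebraTensorModule.assoc R S S T P L (f.lTensor (T ⊗[S] P) x) =
      (AlgebraTensorModule.lTensor S P f).lTensor T (AlgebraTensorModule.assoc R S S T P K x) := by
  induction x using TensorProduct.induction_on with
  | zero => simp
  | add x y hx hy => simp only [map_add, hx, hy]
  | tmul tp k =>
    induction tp using TensorProduct.induction_on with
    | zero => simp
    | add a b ha hb => simp only [add_tmul, map_add, ha, hb]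
    | tmul t p => simp

theorem lTensor_tensor_injective_iff {K L : Type u} [AddCommGroup K] [Module R K]
    [AddCommGroup L] [Module R L] (f : K →ₗ[R] L) :
    Function.Injective (f.lTensor (T ⊗[S] P)) ↔
      Function.Injective ((AlgebraTensorModule.lTensor S P f).lTensor T) := by
  constructor
  · intro h x y hxy
    obtain ⟨x', rfl⟩ := (AlgebraTensorModule.assoc R S S T P K).surjective x
    obtain ⟨y', rfl⟩ := (AlgebraTensorModule.assoc R S S T P K).surjective y
    rw [← assoc_lTensor, ← assoc_lTensor] at hxy
    rw [h ((AlgebraTensorModule.assoc R S S T P L).injective hxy)]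
  · intro h x y hxy
    apply (AlgebraTensorModule.assoc R S S T P K).injective
    apply h
    rw [← assoc_lTensor, ← assoc_lTensor, hxy]

/-- `T` flat over `S`, `P` flat over `R` ⇒ `T ⊗[S] P` flat over `R`. -/
theorem flat_tensor_of_flat [Module.Flat S T] [Module.Flat R P] : Module.Flat R (T ⊗[S] P) := by
  rw [Module.Flat.iff_lTensor_preserves_injective_linearMap'.{u, u, u}]
  intro K L _ _ _ _ f hf
  rw [lTensor_tensor_injective_iff]
  apply Module.Flat.lTensor_preserves_injective_linearMap
  show Function.Injective (f.lTensor P)
  exact Module.Flat.lTensor_preserves_injective_linearMap f hf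

/-- `T` faithfully flat over `S`, `T ⊗[S] P` flat over `R` ⇒ `P` flat over `R`. -/
theorem flat_of_flat_tensor [Module.FaithfullyFlat S T] [Module.Flat R (T ⊗[S] P)] :
    Module.Flat R P := by
  rw [Module.Flat.iff_lTensor_preserves_injective_linearMap'.{u, u, u}]
  intro K L _ _ _ _ f hf
  have h1 : Function.Injective (f.lTensor (T ⊗[S] P)) :=
    Module.Flat.lTensor_preserves_injective_linearMap f hf
  rw [lTensor_tensor_injective_iff,
    Module.FaithfullyFlat.lTensor_injective_iff_injective] at h1
  exact h1

variable {Q : Type u} [AddCommGroup Q] [Module T Q] [Module S Q] [IsScalarTower S T Q]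
  [Module R Q] [IsScalarTower R T Q]

/-- flatness over `R` passes to a base change along a flat `S → T`. -/
theorem flat_of_isBaseChange [Module.Flat S T] (h : P →ₗ[S] Q) (hh : IsBaseChange T h)
    [Module.Flat R P] : Module.Flat R Q :=
  haveI := flat_tensor_of_flat (R := R) (S := S) (T := T) (P := P)
  Module.Flat.of_linearEquiv (hh.equiv.restrictScalars R).symm

/-- flatness over `R` descends along a faithfully flat `S → T`. -/
theorem flat_of_isBaseChange_of_faithfullyFlat [Module.FaithfullyFlat S T] (h : P →ₗ[S] Q)
    (hh : IsBaseChange T h) [Module.Flat R Q] : Module.Flat R P := by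
  haveI : Module.Flat R (T ⊗[S] P) := Module.Flat.of_linearEquiv (hh.equiv.restrictScalars R)
  exact flat_of_flat_tensor (R := R) (S := S) (T := T) (P := P)

end L1

end Groth.Agent.H8.FlatCA
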