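import Mathlib
import Groth.Agent.Lib.Helper8.FlatCA.Descent

/-!
# Flatness over a base at primes, along an integral extension of the algebra (helper8)

* `isLocalizedModule_comp`: localizing `Q` at a submonoid `S₁` of `T` and then at a prime `𝔪` of
  `S₁⁻¹T` is the localization of `Q` at the contraction of `𝔪`.
* `flat_atPrime_of_flat_localizedModule`, `flat_localizedModule_of_forall_maximal`: flatness over a
  base `R` of `S₁⁻¹Q` versus flatness of the `Q_r`.
* `flat_atPrime_of_comap`, `flat_atPrime_of_forall_over`: `R → S → T`, `Q` a `T`-module, `q` a prime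
  of `S`; `Q_q` flat over `R` implies `Q_r` flat over `R` for `r` over `q`, and conversely when `T`
  is integral over `S` (all `r` over `q`).
-/

set_option autoImplicit false
universe u

namespace Groth.Agent.H8.FlatCA

open TensorProduct

section LL

variable {T : Type u} [CommRing T] (S₁ : Submonoid T) (Q : Type u) [AddCommGroup Q] [Module T Q]

theorem sec_not_mem_comap (𝔪 : Ideal (Localization S₁)) [h𝔪 : 𝔪.IsPrime]
    (u : Localization S₁) (hu : u ∉ 𝔪) (t : T) (s : S₁)
    (h : u * algebraMap T (Localization S₁) s = algebraMap T (Localization S₁) t) :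
    t ∉ 𝔪.comap (algebraMap T (Localization S₁)) := by
  intro hmem
  rw [Ideal.mem_comap, ← h] at hmem
  rcases h𝔪.mem_or_mem hmem with h1 | h1
  · exact hu h1
  · exact h𝔪.ne_top (Ideal.eq_top_of_isUnit_mem _ h1 (IsLocalization.map_units _ s))

theorem submonoid_not_mem_comap (𝔪 : Ideal (Localization S₁)) [h𝔪 : 𝔪.IsPrime] (s : S₁) :
    (s : T) ∉ 𝔪.comap (algebraMap T (Localization S₁)) := by
  intro hmem
  rw [Ideal.mem_comap] at hmem
  exact h𝔪.ne_top (Ideal.eq_top_of_isUnit_mem _ hmem (IsLocalization.map_units _ s))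

theorem isLocalizedModule_comp (𝔪 : Ideal (Localization S₁)) [h𝔪 : 𝔪.IsPrime]
    (r : Ideal T) [hrp : r.IsPrime] (hr : r = 𝔪.comap (algebraMap T (Localization S₁))) :
    IsLocalizedModule r.primeCompl
      (((LocalizedModule.mkLinearMap 𝔪.primeCompl (LocalizedModule S₁ Q)).restrictScalars T).comp
        (LocalizedModule.mkLinearMap S₁ Q)) := by
  subst hr
  refine ⟨fun t => ?_, fun y => ?_, fun {x₁ x₂} e => ?_⟩
  · -- units
    have ht : algebraMap T (Localization S₁) t.1 ∈ 𝔪.primeCompl := t.2
    have h1 := IsLocalizedModule.map_units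
      (LocalizedModule.mkLinearMap 𝔪.primeCompl (LocalizedModule S₁ Q)) ⟨_, ht⟩
    rw [Module.End.isUnit_iff] at h1 ⊢
    have hfun : (⇑(algebraMap T (Module.End T
        (LocalizedModule 𝔪.primeCompl (LocalizedModule S₁ Q))) t.1) :
          LocalizedModule 𝔪.primeCompl (LocalizedModule S₁ Q) →
            LocalizedModule 𝔪.primeCompl (LocalizedModule S₁ Q)) =
        ⇑(algebraMap (Localization S₁) (Module.End (Localization S₁)
          (LocalizedModule 𝔪.primeCompl (LocalizedModule S₁ Q)))
            (algebraMap T (Localization S₁) t.1)) := by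
      funext y
      rw [Module.algebraMap_end_apply, Module.algebraMap_end_apply, algebraMap_smul]
    rw [hfun]
    exact h1
  · -- surjectivity
    obtain ⟨⟨z, u⟩, hu⟩ := IsLocalizedModule.surj 𝔪.primeCompl
      (LocalizedModule.mkLinearMap 𝔪.primeCompl (LocalizedModule S₁ Q)) y
    obtain ⟨⟨x, s₁⟩, hs₁⟩ := IsLocalizedModule.surj S₁ (LocalizedModule.mkLinearMap S₁ Q) z
    obtain ⟨⟨t₁, s₂⟩, hts⟩ := IsLocalization.surj S₁ u.1
    dsimp only at hts
    have hu' : u.1 • y =
        LocalizedModule.mkLinearMap 𝔪.primeCompl (LocalizedModule S₁ Q) z := hu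
    have hs₁' : s₁.1 • z = LocalizedModule.mkLinearMap S₁ Q x := hs₁
    have ht₁ := sec_not_mem_comap S₁ 𝔪 u.1 u.2 t₁ s₂ hts
    have hs₁m := submonoid_not_mem_comap S₁ 𝔪 s₁
    refine ⟨⟨s₂.1 • x, ⟨s₁.1 * t₁, Submonoid.mul_mem _ hs₁m ht₁⟩⟩, ?_⟩
    show (s₁.1 * t₁) • y = LocalizedModule.mkLinearMap 𝔪.primeCompl (LocalizedModule S₁ Q)
      (LocalizedModule.mkLinearMap S₁ Q (s₂.1 • x))
    have e1 : t₁ • y =
        s₂.1 • LocalizedModule.mkLinearMap 𝔪.primeCompl (LocalizedModule S₁ Q) z := by
      rw [← hu', ← algebraMap_smul (Localization S₁) t₁ y, ← hts, mul_comm, mul_smul,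
        algebraMap_smul]
    have e2 : s₁.1 • LocalizedModule.mkLinearMap 𝔪.primeCompl (LocalizedModule S₁ Q) z =
        LocalizedModule.mkLinearMap 𝔪.primeCompl (LocalizedModule S₁ Q)
          (LocalizedModule.mkLinearMap S₁ Q x) := by
      rw [← hs₁', LinearMap.map_smul_of_tower]
    rw [mul_smul, e1, smul_comm, e2, map_smul (LocalizedModule.mkLinearMap S₁ Q),
      LinearMap.map_smul_of_tower]
  · -- injectivity up to the submonoid
    have e' : LocalizedModule.mkLinearMap 𝔪.primeCompl (LocalizedModule S₁ Q)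
        (LocalizedModule.mkLinearMap S₁ Q x₁) =
        LocalizedModule.mkLinearMap 𝔪.primeCompl (LocalizedModule S₁ Q)
        (LocalizedModule.mkLinearMap S₁ Q x₂) := e
    obtain ⟨u, hu⟩ := IsLocalizedModule.exists_of_eq (S := 𝔪.primeCompl)
      (f := LocalizedModule.mkLinearMap 𝔪.primeCompl (LocalizedModule S₁ Q)) e'
    obtain ⟨⟨t₁, s₂⟩, hts⟩ := IsLocalization.surj S₁ u.1
    dsimp only at hts
    have ht₁ := sec_not_mem_comap S₁ 𝔪 u.1 u.2 t₁ s₂ hts
    have hu' : u.1 • LocalizedModule.mkLinearMap S₁ Q x₁ =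
        u.1 • LocalizedModule.mkLinearMap S₁ Q x₂ := hu
    have e2 : LocalizedModule.mkLinearMap S₁ Q (t₁ • x₁) =
        LocalizedModule.mkLinearMap S₁ Q (t₁ • x₂) := by
      rw [map_smul, map_smul,
        ← algebraMap_smul (Localization S₁) t₁ (LocalizedModule.mkLinearMap S₁ Q x₁),
        ← algebraMap_smul (Localization S₁) t₁ (LocalizedModule.mkLinearMap S₁ Q x₂),
        ← hts, mul_comm, mul_smul, mul_smul, hu']
    obtain ⟨s₃, hs₃⟩ := IsLocalizedModule.exists_of_eq (S := S₁)
      (f := LocalizedModule.mkLinearMap S₁ Q) e2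
    have hs₃' : s₃.1 • t₁ • x₁ = s₃.1 • t₁ • x₂ := hs₃
    refine ⟨⟨s₃.1 * t₁, Submonoid.mul_mem _ (submonoid_not_mem_comap S₁ 𝔪 s₃) ht₁⟩, ?_⟩
    show (s₃.1 * t₁) • x₁ = (s₃.1 * t₁) • x₂
    rw [mul_smul, mul_smul, hs₃']

end LL

section AB

variable {R T : Type u} [CommRing R] [CommRing T] [Algebra R T]
  (S₁ : Submonoid T) (Q : Type u) [AddCommGroup Q] [Module T Q] [Module R Q] [IsScalarTower R T Q]

theorem flat_double_iff (𝔪 : Ideal (Localization S₁)) [𝔪.IsPrime] (r : Ideal T) [r.IsPrime]
    (hr : r = 𝔪.comap (algebraMap T (Localization S₁))) :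
    Module.Flat R (LocalizedModule r.primeCompl Q) ↔
      Module.Flat R (LocalizedModule 𝔪.primeCompl (LocalizedModule S₁ Q)) := by
  haveI := isLocalizedModule_comp S₁ Q 𝔪 r hr
  exact Module.Flat.equiv_iff ((IsLocalizedModule.iso r.primeCompl
    (((LocalizedModule.mkLinearMap 𝔪.primeCompl (LocalizedModule S₁ Q)).restrictScalars T).comp
        (LocalizedModule.mkLinearMap S₁ Q))).restrictScalars R)

/-- If `S₁⁻¹Q` is flat over `R` then so is `Q_r` for every prime `r` disjoint from `S₁`. -/
theorem flat_atPrime_of_flat_localizedModule (r : Ideal T) [hr : r.IsPrime]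
    (hdisj : Disjoint (S₁ : Set T) (r : Set T)) [Module.Flat R (LocalizedModule S₁ Q)] :
    Module.Flat R (LocalizedModule r.primeCompl Q) := by
  haveI h𝔪 : (r.map (algebraMap T (Localization S₁))).IsPrime :=
    IsLocalization.isPrime_of_isPrime_disjoint S₁ _ r hr hdisj
  have hcomap : r = (r.map (algebraMap T (Localization S₁))).comap
      (algebraMap T (Localization S₁)) :=
    (IsLocalization.under_map_of_isPrime_disjoint S₁ _ hr hdisj).symm
  refine (flat_double_iff (R := R) S₁ Q (r.map (algebraMap T (Localization S₁))) r hcomap).mpr ?_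
  haveI : Module.Flat (Localization S₁)
      (Localization.AtPrime (r.map (algebraMap T (Localization S₁)))) :=
    IsLocalization.flat _ (r.map (algebraMap T (Localization S₁))).primeCompl
  exact flat_of_isBaseChange (R := R)
    (LocalizedModule.mkLinearMap (r.map (algebraMap T (Localization S₁))).primeCompl
      (LocalizedModule S₁ Q))
    (IsLocalizedModule.isBaseChange (r.map (algebraMap T (Localization S₁))).primeCompl
      (Localization.AtPrime (r.map (algebraMap T (Localization S₁)))) _)

/-- `S₁⁻¹Q` is flat over `R` as soon as the `Q_r` are, `r` the contractions of the maximal ideals of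
`S₁⁻¹T`. -/
theorem flat_localizedModule_of_forall_maximal
    (H : ∀ (𝔪 : Ideal (Localization S₁)) [𝔪.IsMaximal],
      Module.Flat R (LocalizedModule (𝔪.comap (algebraMap T (Localization S₁))).primeCompl Q)) :
    Module.Flat R (LocalizedModule S₁ Q) := by
  refine Module.flat_of_isLocalized_maximal (R := R) (Localization S₁) (LocalizedModule S₁ Q)
    (fun P => LocalizedModule P.primeCompl (LocalizedModule S₁ Q))
    (fun P => LocalizedModule.mkLinearMap P.primeCompl (LocalizedModule S₁ Q)) (fun 𝔪 => ?_)
  exact (flat_double_iff (R := R) S₁ Q 𝔪 (𝔪.comap (algebraMap T (Localization S₁))) rfl).mp (H 𝔪)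

end AB

section D

variable {S T : Type u} [CommRing S] [CommRing T] [Algebra S T]

/-- For `T` integral over `S` and `q` a prime of `S`, the maximal ideals of `T_q` lie over `q`. -/
theorem comap_comap_eq_of_isMaximal [Algebra.IsIntegral S T] (q : Ideal S) [q.IsPrime]
    (𝔪 : Ideal (Localization (Algebra.algebraMapSubmonoid T q.primeCompl))) [𝔪.IsMaximal] :
    (𝔪.comap (algebraMap T (Localization (Algebra.algebraMapSubmonoid T q.primeCompl)))).comap
      (algebraMap S T) = q := by
  have hψ : (IsLocalization.map (Localization (Algebra.algebraMapSubmonoid T q.primeCompl))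
      (algebraMap S T)
      (show _ ≤ (Algebra.algebraMapSubmonoid T q.primeCompl).comap _ from
        q.primeCompl.le_comap_map) : Localization.AtPrime q →+* _).IsIntegral :=
    isIntegral_localization
  haveI h𝔫 := Ideal.isMaximal_comap_of_isIntegral_of_isMaximal' _ hψ 𝔪
  have h𝔫' := IsLocalRing.eq_maximalIdeal h𝔫
  ext s
  have key := IsLocalization.AtPrime.to_map_mem_maximal_iff (Localization.AtPrime q) q s
  rw [← h𝔫', Ideal.mem_comap, IsLocalization.map_eq] at key
  rw [Ideal.mem_comap, Ideal.mem_comap]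
  exact key

end D

section CD

variable {R S T : Type u} [CommRing R] [CommRing S] [CommRing T] [Algebra R S] [Algebra S T]
  [Algebra R T] [IsScalarTower R S T]
  (Q : Type u) [AddCommGroup Q] [Module T Q] [Module S Q] [IsScalarTower S T Q]
  [Module R Q] [IsScalarTower R T Q] [IsScalarTower R S Q]

theorem flat_localizedModule_algebraMapSubmonoid_iff (q : Ideal S) [q.IsPrime] :
    Module.Flat R (LocalizedModule q.primeCompl Q) ↔
      Module.Flat R (LocalizedModule (Algebra.algebraMapSubmonoid T q.primeCompl) Q) := by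
  haveI : IsLocalizedModule q.primeCompl
      ((LocalizedModule.mkLinearMap (Algebra.algebraMapSubmonoid T q.primeCompl) Q).restrictScalars
        S) :=
    IsLocalizedModule.restrictScalars q.primeCompl _
  exact Module.Flat.equiv_iff ((IsLocalizedModule.iso q.primeCompl
      ((LocalizedModule.mkLinearMap (Algebra.algebraMapSubmonoid T q.primeCompl) Q).restrictScalars
        S)).restrictScalars R)

/-- `Q_q` flat over `R` implies `Q_r` flat over `R` for every prime `r` of `T` over `q`. -/
theorem flat_atPrime_of_comap (r : Ideal T) [r.IsPrime] (q : Ideal S) [q.IsPrime]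
    (hq : q = r.comap (algebraMap S T)) [h : Module.Flat R (LocalizedModule q.primeCompl Q)] :
    Module.Flat R (LocalizedModule r.primeCompl Q) := by
  haveI : Module.Flat R (LocalizedModule (Algebra.algebraMapSubmonoid T q.primeCompl) Q) :=
    (flat_localizedModule_algebraMapSubmonoid_iff (R := R) Q q).mp h
  refine flat_atPrime_of_flat_localizedModule (R := R)
    (Algebra.algebraMapSubmonoid T q.primeCompl) Q r ?_
  rw [Set.disjoint_left]
  rintro _ ⟨s, hs, rfl⟩ hmem
  apply hs
  rw [hq]
  exact hmem

/-- For `T` integral over `S`: if `Q_r` is flat over `R` for every prime `r` of `T` over `q`, then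
`Q_q` is flat over `R`. -/
theorem flat_atPrime_of_forall_over [Algebra.IsIntegral S T] (q : Ideal S) [q.IsPrime]
    (H : ∀ (r : Ideal T) [r.IsPrime], r.comap (algebraMap S T) = q →
      Module.Flat R (LocalizedModule r.primeCompl Q)) :
    Module.Flat R (LocalizedModule q.primeCompl Q) := by
  refine (flat_localizedModule_algebraMapSubmonoid_iff (R := R) (T := T) Q q).mpr ?_
  refine flat_localizedModule_of_forall_maximal (R := R) (T := T)
    (Algebra.algebraMapSubmonoid T q.primeCompl) Q (fun 𝔪 => ?_)
  exact H _ (comap_comap_eq_of_isMaximal q 𝔪)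

end CD

end Groth.Agent.H8.FlatCA
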