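import Mathlib
import Groth.Agent.Lib.Helper8.FlatCA.LocLoc
import Groth.Agent.Lib.Helper8.FlatCA.Loc2

/-!
# Descent of flatness at a prime along a base change flat at the prime below (helper8)

`S' = S ⊗_R R'`, `M' = M ⊗_R R'`, `q'` a prime of `S'` over `q` (in `S`) and `p'` (in `R'`), with
`R'_{p'}` flat over `R`.  If `M'_{q'}` is flat over `R'` then `M_q` is flat over `R`.
-/

set_option autoImplicit false
universe u

namespace Groth.Agent.H8.FlatCA

open TensorProduct

section DESC

variable {R S R' S' : Type u} [CommRing R] [CommRing S] [CommRing R'] [CommRing S']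
  [Algebra R S] [Algebra R R'] [Algebra S S'] [Algebra R' S'] [Algebra R S'] [IsScalarTower R S S']
  [IsScalarTower R R' S'] [Algebra.IsPushout R S R' S']
  {M M' : Type u} [AddCommGroup M] [Module S M] [Module R M] [IsScalarTower R S M]
  [AddCommGroup M'] [Module S' M'] [Module R' M'] [IsScalarTower R' S' M'] [Module S M']
  [IsScalarTower S S' M']
  (q' : Ideal S') [q'.IsPrime] (q : Ideal S) [q.IsPrime] (p' : Ideal R') [p'.IsPrime]

local notation "S₂" => Algebra.algebraMapSubmonoid S' (Ideal.primeCompl p')
local notation "T₂" => Localization (Algebra.algebraMapSubmonoid S' (Ideal.primeCompl p'))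
local notation "Rp" => Localization.AtPrime p'
local notation "Sq'" => Localization.AtPrime q'
local notation "X" => LocalizedModule (Ideal.primeCompl q') M'

/-- `S'_{q'}` is flat over `S` when `R'_{p'}` is flat over `R` (`p' = q' ∩ R'`). -/
theorem flat_localization_atPrime_of_flat (hp' : p' = q'.comap (algebraMap R' S'))
    [Module.Flat R (Localization.AtPrime p')] : Module.Flat S (Localization.AtPrime q') := by
  classical
  haveI twRRpT : IsScalarTower R Rp T₂ :=
    IsScalarTower.of_algebraMap_eq (fun r => by
      rw [IsScalarTower.algebraMap_apply R R' Rp, ← IsScalarTower.algebraMap_apply R' Rp T₂,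
        ← IsScalarTower.algebraMap_apply R R' T₂])
  haveI po0 : Algebra.IsPushout R R' S S' := Algebra.IsPushout.symm inferInstance
  haveI po1 : Algebra.IsPushout R' S' Rp T₂ :=
    Algebra.isPushout_of_isLocalization p'.primeCompl Rp S' T₂
  haveI po2 : Algebra.IsPushout R' Rp S' T₂ := po1.symm
  haveI po3 : Algebra.IsPushout R Rp S T₂ :=
    (Algebra.IsPushout.comp_iff R R' S S' (T := Rp) (T' := T₂)).mpr po2
  haveI po4 : Algebra.IsPushout R S Rp T₂ := po3.symm
  haveI flT₂ : Module.Flat S T₂ := Module.Flat.isBaseChange R S Rp T₂ po4.out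
  haveI flT₂' : Module.Flat S (LocalizedModule S₂ S') := flT₂
  have key : Module.Flat S (LocalizedModule q'.primeCompl S') := by
    refine flat_atPrime_of_flat_localizedModule (R := S) S₂ S' q' ?_
    rw [Set.disjoint_left]
    rintro _ ⟨a, ha, rfl⟩ hmem
    apply ha
    rw [hp']
    exact hmem
  exact key

theorem flat_atPrime_descent (f : M →ₗ[S] M') (hf : IsBaseChange S' f)
    (hq : q = q'.comap (algebraMap S S')) (hp' : p' = q'.comap (algebraMap R' S'))
    [Module.Flat R (Localization.AtPrime p')]
    [hfl : Module.Flat R' (LocalizedModule q'.primeCompl M')] :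
    Module.Flat R (LocalizedModule q.primeCompl M) := by
  classical
  haveI flS : Module.Flat S (Localization.AtPrime q') :=
    flat_localization_atPrime_of_flat (R := R) q' p' hp'
  -- an `R`-module structure on `M'`
  letI modRM' : Module R M' := Module.compHom M' (algebraMap R S')
  haveI twRS'M' : IsScalarTower R S' M' := IsScalarTower.of_algebraMap_smul (fun _ _ => rfl)
  haveI twRR'M' : IsScalarTower R R' M' := IsScalarTower.of_algebraMap_smul (fun r x => by
    show algebraMap R R' r • x = algebraMap R S' r • x
    rw [IsScalarTower.algebraMap_apply R R' S', algebraMap_smul S' (algebraMap R R' r) x])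
  -- `X = M'_{q'}` as a module over `R'_{p'}`
  letI algpq : Algebra Rp Sq' :=
    (Localization.localRingHom p' q' (algebraMap R' S') hp').toAlgebra
  have halg : ∀ z, algebraMap Rp Sq' z =
      Localization.localRingHom p' q' (algebraMap R' S') hp' z := fun _ => rfl
  letI modRpX : Module Rp X := Module.compHom X (algebraMap Rp Sq')
  haveI tw1 : IsScalarTower R' Rp X := IsScalarTower.of_algebraMap_smul (fun a x => by
    show algebraMap Rp Sq' (algebraMap R' Rp a) • x = a • x
    rw [halg, Localization.localRingHom_to_map, algebraMap_smul, algebraMap_smul])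
  haveI tw2 : IsScalarTower R Rp X := IsScalarTower.of_algebraMap_smul (fun r x => by
    rw [IsScalarTower.algebraMap_apply R R' Rp, algebraMap_smul, algebraMap_smul])
  haveI flRpX : Module.Flat Rp X :=
    (Module.flat_iff_of_isLocalization Rp p'.primeCompl X).mpr hfl
  haveI flRX : Module.Flat R X := Module.Flat.trans R Rp X
  exact (flat_localizedModule_iff' (R := R) f hf q' q hq).mpr flRX

end DESC

end Groth.Agent.H8.FlatCA
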