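import Mathlib
import Groth.Agent.Lib.Helper8.FlatCA.Descent

/-!
# Flatness over a base at a prime, along a flat base change of the algebra (helper8)

`R → S → T` with `T` flat over `S`, `Q = T ⊗[S] P`; `r` a prime of `T` lying over `q`.  Then
`P_q` is flat over `R` iff `Q_r` is flat over `R`.
-/

set_option autoImplicit false
universe u

namespace Groth.Agent.H8.FlatCA

open TensorProduct

section LOC

variable {R S T : Type u} [CommRing R] [CommRing S] [CommRing T] [Algebra R S] [Algebra S T]
  [Algebra R T] [IsScalarTower R S T]
  {P : Type u} [AddCommGroup P] [Module S P] [Module R P] [IsScalarTower R S P]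
  {Q : Type u} [AddCommGroup Q] [Module T Q] [Module S Q] [IsScalarTower S T Q]
  [Module R Q] [IsScalarTower R T Q]

theorem flat_localizedModule_iff [Module.Flat S T] (h : P →ₗ[S] Q) (hh : IsBaseChange T h)
    (r : Ideal T) [r.IsPrime] (q : Ideal S) [q.IsPrime] (hq : q = r.comap (algebraMap S T)) :
    Module.Flat R (LocalizedModule q.primeCompl P) ↔
      Module.Flat R (LocalizedModule r.primeCompl Q) := by
  classical
  letI algST : Algebra (Localization.AtPrime q) (Localization.AtPrime r) :=
    (Localization.localRingHom q r (algebraMap S T) hq).toAlgebra
  have halg : ∀ z, algebraMap (Localization.AtPrime q) (Localization.AtPrime r) z =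
      Localization.localRingHom q r (algebraMap S T) hq z := fun _ => rfl
  haveI tw1 : IsScalarTower S (Localization.AtPrime q) (Localization.AtPrime r) :=
    IsScalarTower.of_algebraMap_eq (fun s => by
      rw [halg, Localization.localRingHom_to_map, ← IsScalarTower.algebraMap_apply])
  haveI fl0 : Module.Flat T (Localization.AtPrime r) :=
    IsLocalization.flat (Localization.AtPrime r) r.primeCompl
  haveI fl1 : Module.Flat S (Localization.AtPrime r) :=
    Module.Flat.trans S T (Localization.AtPrime r)
  haveI fl2 : Module.Flat (Localization.AtPrime q) (Localization.AtPrime r) :=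
    (Module.flat_iff_of_isLocalization (Localization.AtPrime q) q.primeCompl
      (Localization.AtPrime r)).mpr fl1
  haveI lh : IsLocalHom (algebraMap (Localization.AtPrime q) (Localization.AtPrime r)) :=
    Localization.isLocalHom_localRingHom q r (algebraMap S T) hq
  haveI ff : Module.FaithfullyFlat (Localization.AtPrime q) (Localization.AtPrime r) :=
    Module.FaithfullyFlat.of_flat_of_isLocalHom
  -- module structures on `Q_r`
  letI modq : Module (Localization.AtPrime q) (LocalizedModule r.primeCompl Q) :=
    Module.compHom (LocalizedModule r.primeCompl Q)
      (algebraMap (Localization.AtPrime q) (Localization.AtPrime r))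
  haveI tw2 : IsScalarTower (Localization.AtPrime q) (Localization.AtPrime r)
      (LocalizedModule r.primeCompl Q) :=
    IsScalarTower.of_algebraMap_smul (fun _ _ => rfl)
  haveI tw3 : IsScalarTower S (Localization.AtPrime r) (LocalizedModule r.primeCompl Q) :=
    IsScalarTower.of_algebraMap_smul (fun s x => by
      rw [IsScalarTower.algebraMap_apply S T (Localization.AtPrime r), algebraMap_smul,
        algebraMap_smul])
  haveI tw4 : IsScalarTower S (Localization.AtPrime q) (LocalizedModule r.primeCompl Q) :=
    IsScalarTower.of_algebraMap_smul (fun s x => by
      show algebraMap (Localization.AtPrime q) (Localization.AtPrime r)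
        (algebraMap S (Localization.AtPrime q) s) • x = s • x
      rw [← IsScalarTower.algebraMap_apply S (Localization.AtPrime q) (Localization.AtPrime r),
        algebraMap_smul])
  haveI tw5 : IsScalarTower R (Localization.AtPrime q) (Localization.AtPrime r) :=
    IsScalarTower.of_algebraMap_eq (fun x => by
      rw [IsScalarTower.algebraMap_apply R S (Localization.AtPrime q), halg,
        Localization.localRingHom_to_map, ← IsScalarTower.algebraMap_apply R S T,
        ← IsScalarTower.algebraMap_apply R T (Localization.AtPrime r)])
  -- the localization maps as base changes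
  have hP : IsBaseChange (Localization.AtPrime q) (LocalizedModule.mkLinearMap q.primeCompl P) :=
    IsLocalizedModule.isBaseChange q.primeCompl (Localization.AtPrime q) _
  have hQ : IsBaseChange (Localization.AtPrime r) (LocalizedModule.mkLinearMap r.primeCompl Q) :=
    IsLocalizedModule.isBaseChange r.primeCompl (Localization.AtPrime r) _
  have hcomp : IsBaseChange (Localization.AtPrime r)
      (((LocalizedModule.mkLinearMap r.primeCompl Q).restrictScalars S).comp h) :=
    IsBaseChange.comp hh hQ
  let hhat : LocalizedModule q.primeCompl P →ₗ[Localization.AtPrime q]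
      LocalizedModule r.primeCompl Q :=
    hP.lift (((LocalizedModule.mkLinearMap r.primeCompl Q).restrictScalars S).comp h)
  have hhat_bc : IsBaseChange (Localization.AtPrime r) hhat := by
    refine IsBaseChange.of_comp hP ?_
    have e : (hhat.restrictScalars S).comp (LocalizedModule.mkLinearMap q.primeCompl P) =
        ((LocalizedModule.mkLinearMap r.primeCompl Q).restrictScalars S).comp h :=
      hP.lift_comp _
    rw [e]
    exact hcomp
  constructor
  · intro hfl
    exact flat_of_isBaseChange (R := R) hhat hhat_bc
  · intro hfl
    exact flat_of_isBaseChange_of_faithfullyFlat (R := R) hhat hhat_bc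

end LOC

end Groth.Agent.H8.FlatCA
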