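import Mathlib

/-!
# Primes above the closed points in a base change of a local homomorphism (helper8)

`B → C` a local homomorphism of local rings, `C' = C ⊗_B B'`.  Every prime `q` of `B'` containing
`𝔪_B B'` is the contraction of a prime of `C'` containing `𝔪_C C'`.
-/

set_option autoImplicit false
universe u

namespace Groth.Agent.H8.FlatCA

open TensorProduct IsLocalRing

theorem exists_prime_over
    {B C B' C' : Type u} [CommRing B] [IsLocalRing B] [CommRing C] [IsLocalRing C] [Algebra B C]
    [IsLocalHom (algebraMap B C)]
    [CommRing B'] [Algebra B B'] [CommRing C'] [Algebra B C'] [Algebra C C'] [Algebra B' C']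
    [IsScalarTower B C C'] [IsScalarTower B B' C'] [Algebra.IsPushout B C B' C']
    (q : Ideal B') [q.IsPrime] (hq : (maximalIdeal B).map (algebraMap B B') ≤ q) :
    ∃ r : Ideal C', r.IsPrime ∧ r.comap (algebraMap B' C') = q ∧
      (maximalIdeal C).map (algebraMap C C') ≤ r := by
  classical
  -- the residue field of `q` as an algebra over the residue field of `B`
  let ρ : ResidueField B →+* q.ResidueField :=
    Ideal.Quotient.lift (maximalIdeal B)
      ((algebraMap B' q.ResidueField).comp (algebraMap B B')) (fun b hb => by
        rw [RingHom.comp_apply, Ideal.algebraMap_residueField_eq_zero]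
        exact hq (Ideal.mem_map_of_mem _ hb))
  letI algκ : Algebra (ResidueField B) q.ResidueField := ρ.toAlgebra
  have hρ : ∀ b : B, algebraMap (ResidueField B) q.ResidueField (residue B b) =
      algebraMap B' q.ResidueField (algebraMap B B' b) := fun b => rfl
  haveI : Nontrivial (ResidueField C ⊗[ResidueField B] q.ResidueField) :=
    Algebra.TensorProduct.nontrivial_of_algebraMap_injective_of_flat_left (ResidueField B)
      (ResidueField C) q.ResidueField (algebraMap (ResidueField B) q.ResidueField).injective
  letI algB : Algebra B (ResidueField C ⊗[ResidueField B] q.ResidueField) :=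
    ((algebraMap (ResidueField B) (ResidueField C ⊗[ResidueField B] q.ResidueField)).comp
      (residue B)).toAlgebra
  have halgB : ∀ b : B, algebraMap B (ResidueField C ⊗[ResidueField B] q.ResidueField) b =
      algebraMap (ResidueField B) (ResidueField C ⊗[ResidueField B] q.ResidueField)
        (residue B b) := fun b => rfl
  -- the two maps into the tensor product of the residue fields
  let f : C →ₐ[B] (ResidueField C ⊗[ResidueField B] q.ResidueField) :=
    { (Algebra.TensorProduct.includeLeftRingHom.comp (residue C) :
        C →+* (ResidueField C ⊗[ResidueField B] q.ResidueField)) with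
      commutes' := fun b => by
        show (residue C (algebraMap B C b)) ⊗ₜ[ResidueField B] (1 : q.ResidueField) = _
        rw [halgB, Algebra.TensorProduct.algebraMap_apply, ResidueField.algebraMap_residue] }
  have hf : ∀ c : C, f c = (residue C c) ⊗ₜ[ResidueField B] (1 : q.ResidueField) := fun c => rfl
  let g : B' →ₐ[B] (ResidueField C ⊗[ResidueField B] q.ResidueField) :=
    { ((Algebra.TensorProduct.includeRight :
          q.ResidueField →ₐ[ResidueField B] _).toRingHom.comp (algebraMap B' q.ResidueField) :
        B' →+* (ResidueField C ⊗[ResidueField B] q.ResidueField)) with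
      commutes' := fun b => by
        show (Algebra.TensorProduct.includeRight :
          q.ResidueField →ₐ[ResidueField B] _) (algebraMap B' q.ResidueField (algebraMap B B' b)) = _
        rw [← hρ, AlgHom.commutes, halgB] }
  have hg : ∀ b' : B', g b' = (1 : ResidueField C) ⊗ₜ[ResidueField B]
      (algebraMap B' q.ResidueField b') := fun b' => rfl
  let ψ : C' →ₐ[B] (ResidueField C ⊗[ResidueField B] q.ResidueField) :=
    Algebra.pushoutDesc C' f g (fun _ _ => mul_comm _ _)
  have hψl : ∀ c : C, ψ (algebraMap C C' c) = f c :=
    fun c => Algebra.pushoutDesc_left C' f g _ c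
  have hψr : ∀ b' : B', ψ (algebraMap B' C' b') = g b' :=
    fun b' => Algebra.pushoutDesc_right C' f g _ b'
  obtain ⟨𝔓, h𝔓⟩ := Ideal.exists_maximal (ResidueField C ⊗[ResidueField B] q.ResidueField)
  haveI := h𝔓.isPrime
  refine ⟨𝔓.comap ψ.toRingHom, Ideal.comap_isPrime _ _, ?_, ?_⟩
  · ext b'
    rw [Ideal.mem_comap, Ideal.mem_comap]
    show ψ (algebraMap B' C' b') ∈ 𝔓 ↔ _
    rw [hψr, hg]
    -- the contraction of `𝔓` to the field `κ(q)` is zero
    have hbot : 𝔓.comap (Algebra.TensorProduct.includeRight :
        q.ResidueField →ₐ[ResidueField B] _).toRingHom = ⊥ := by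
      rcases Ideal.eq_bot_or_top (𝔓.comap (Algebra.TensorProduct.includeRight :
        q.ResidueField →ₐ[ResidueField B] _).toRingHom) with h | h
      · exact h
      · exfalso
        apply h𝔓.ne_top
        rw [Ideal.eq_top_iff_one]
        have h1 : (1 : q.ResidueField) ∈ 𝔓.comap (Algebra.TensorProduct.includeRight :
            q.ResidueField →ₐ[ResidueField B] _).toRingHom := by rw [h]; trivial
        rw [Ideal.mem_comap, map_one] at h1
        exact h1
    have hiff : ∀ y : q.ResidueField, (1 : ResidueField C) ⊗ₜ[ResidueField B] y ∈ 𝔓 ↔ y = 0 := by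
      intro y
      have : (1 : ResidueField C) ⊗ₜ[ResidueField B] y ∈ 𝔓 ↔
          y ∈ 𝔓.comap (Algebra.TensorProduct.includeRight :
            q.ResidueField →ₐ[ResidueField B] _).toRingHom := Iff.rfl
      rw [this, hbot, Ideal.mem_bot]
    rw [hiff, Ideal.algebraMap_residueField_eq_zero]
  · rw [Ideal.map_le_iff_le_comap]
    intro c hc
    rw [Ideal.mem_comap, Ideal.mem_comap]
    show ψ (algebraMap C C' c) ∈ 𝔓
    rw [hψl, hf, (residue_eq_zero_iff c).mpr hc, zero_tmul]
    exact zero_mem _

end Groth.Agent.H8.FlatCA
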