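import Mathlib

/-!
# Primes of a pushout over a compatible pair of primes (helper8)

`S' = S ⊗_R R'`; for primes `q` of `S` and `p'` of `R'` with the same contraction to `R` there is a
prime of `S'` lying over both.
-/

set_option autoImplicit false
universe u

namespace Groth.Agent.H8.FlatCA

open TensorProduct

theorem exists_prime_over_pair
    {R S R' S' : Type u} [CommRing R] [CommRing S] [CommRing R'] [CommRing S']
    [Algebra R S] [Algebra R R'] [Algebra S S'] [Algebra R' S'] [Algebra R S'] [IsScalarTower R S S']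
    [IsScalarTower R R' S'] [Algebra.IsPushout R S R' S']
    (q : Ideal S) [q.IsPrime] (p' : Ideal R') [p'.IsPrime] (p : Ideal R) [p.IsPrime]
    (hq : p = q.comap (algebraMap R S)) (hp' : p = p'.comap (algebraMap R R')) :
    ∃ q' : Ideal S', q'.IsPrime ∧ q'.comap (algebraMap S S') = q ∧
      q'.comap (algebraMap R' S') = p' := by
  classical
  letI alg1 : Algebra p.ResidueField q.ResidueField :=
    (Ideal.ResidueField.map p q (algebraMap R S) hq).toAlgebra
  letI alg2 : Algebra p.ResidueField p'.ResidueField :=
    (Ideal.ResidueField.map p p' (algebraMap R R') hp').toAlgebra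
  have h1 : ∀ r : R, algebraMap p.ResidueField q.ResidueField (algebraMap R p.ResidueField r) =
      algebraMap S q.ResidueField (algebraMap R S r) :=
    fun r => Ideal.ResidueField.map_algebraMap p q (algebraMap R S) hq r
  have h2 : ∀ r : R, algebraMap p.ResidueField p'.ResidueField (algebraMap R p.ResidueField r) =
      algebraMap R' p'.ResidueField (algebraMap R R' r) :=
    fun r => Ideal.ResidueField.map_algebraMap p p' (algebraMap R R') hp' r
  haveI : Nontrivial (q.ResidueField ⊗[p.ResidueField] p'.ResidueField) :=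
    Algebra.TensorProduct.nontrivial_of_algebraMap_injective_of_flat_left p.ResidueField
      q.ResidueField p'.ResidueField (algebraMap p.ResidueField p'.ResidueField).injective
  letI algR : Algebra R (q.ResidueField ⊗[p.ResidueField] p'.ResidueField) :=
    ((algebraMap p.ResidueField (q.ResidueField ⊗[p.ResidueField] p'.ResidueField)).comp
      (algebraMap R p.ResidueField)).toAlgebra
  have halgR : ∀ r : R, algebraMap R (q.ResidueField ⊗[p.ResidueField] p'.ResidueField) r =
      algebraMap p.ResidueField (q.ResidueField ⊗[p.ResidueField] p'.ResidueField)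
        (algebraMap R p.ResidueField r) := fun r => rfl
  let f : S →ₐ[R] (q.ResidueField ⊗[p.ResidueField] p'.ResidueField) :=
    { (Algebra.TensorProduct.includeLeftRingHom.comp (algebraMap S q.ResidueField) :
        S →+* (q.ResidueField ⊗[p.ResidueField] p'.ResidueField)) with
      commutes' := fun r => by
        show (algebraMap S q.ResidueField (algebraMap R S r)) ⊗ₜ[p.ResidueField]
          (1 : p'.ResidueField) = _
        rw [halgR, Algebra.TensorProduct.algebraMap_apply, h1] }
  have hf : ∀ s : S, f s = (algebraMap S q.ResidueField s) ⊗ₜ[p.ResidueField]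
      (1 : p'.ResidueField) := fun s => rfl
  let g : R' →ₐ[R] (q.ResidueField ⊗[p.ResidueField] p'.ResidueField) :=
    { ((Algebra.TensorProduct.includeRight :
          p'.ResidueField →ₐ[p.ResidueField] _).toRingHom.comp (algebraMap R' p'.ResidueField) :
        R' →+* (q.ResidueField ⊗[p.ResidueField] p'.ResidueField)) with
      commutes' := fun r => by
        show (Algebra.TensorProduct.includeRight :
          p'.ResidueField →ₐ[p.ResidueField] _) (algebraMap R' p'.ResidueField
            (algebraMap R R' r)) = _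
        rw [← h2, AlgHom.commutes, halgR] }
  have hg : ∀ b' : R', g b' = (1 : q.ResidueField) ⊗ₜ[p.ResidueField]
      (algebraMap R' p'.ResidueField b') := fun b' => rfl
  let ψ : S' →ₐ[R] (q.ResidueField ⊗[p.ResidueField] p'.ResidueField) :=
    Algebra.pushoutDesc S' f g (fun _ _ => mul_comm _ _)
  have hψl : ∀ s : S, ψ (algebraMap S S' s) = f s :=
    fun s => Algebra.pushoutDesc_left S' f g _ s
  have hψr : ∀ b' : R', ψ (algebraMap R' S' b') = g b' :=
    fun b' => Algebra.pushoutDesc_right S' f g _ b'
  obtain ⟨𝔓, h𝔓⟩ := Ideal.exists_maximal (q.ResidueField ⊗[p.ResidueField] p'.ResidueField)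
  haveI := h𝔓.isPrime
  -- contractions of `𝔓` to fields are zero
  have hbot : ∀ {F : Type u} [Field F]
      (φ : F →+* (q.ResidueField ⊗[p.ResidueField] p'.ResidueField)), 𝔓.comap φ = ⊥ := by
    intro F _ φ
    rcases Ideal.eq_bot_or_top (𝔓.comap φ) with h | h
    · exact h
    · exfalso
      apply h𝔓.ne_top
      rw [Ideal.eq_top_iff_one]
      have h1' : (1 : F) ∈ 𝔓.comap φ := by rw [h]; trivial
      rw [Ideal.mem_comap, map_one] at h1'
      exact h1'
  refine ⟨𝔓.comap ψ.toRingHom, Ideal.comap_isPrime _ _, ?_, ?_⟩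
  · ext s
    rw [Ideal.mem_comap, Ideal.mem_comap]
    show ψ (algebraMap S S' s) ∈ 𝔓 ↔ _
    rw [hψl, hf]
    have hiff : ∀ y : q.ResidueField, y ⊗ₜ[p.ResidueField] (1 : p'.ResidueField) ∈ 𝔓 ↔ y = 0 := by
      intro y
      have : y ⊗ₜ[p.ResidueField] (1 : p'.ResidueField) ∈ 𝔓 ↔
          y ∈ 𝔓.comap (Algebra.TensorProduct.includeLeftRingHom :
            q.ResidueField →+* (q.ResidueField ⊗[p.ResidueField] p'.ResidueField)) := Iff.rfl
      rw [this, hbot, Ideal.mem_bot]
    rw [hiff, Ideal.algebraMap_residueField_eq_zero]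
  · ext b'
    rw [Ideal.mem_comap, Ideal.mem_comap]
    show ψ (algebraMap R' S' b') ∈ 𝔓 ↔ _
    rw [hψr, hg]
    have hiff : ∀ y : p'.ResidueField, (1 : q.ResidueField) ⊗ₜ[p.ResidueField] y ∈ 𝔓 ↔ y = 0 := by
      intro y
      have : (1 : q.ResidueField) ⊗ₜ[p.ResidueField] y ∈ 𝔓 ↔
          y ∈ 𝔓.comap (Algebra.TensorProduct.includeRight :
            p'.ResidueField →ₐ[p.ResidueField] _).toRingHom := Iff.rfl
      rw [this, hbot, Ideal.mem_bot]
    rw [hiff, Ideal.algebraMap_residueField_eq_zero]

end Groth.Agent.H8.FlatCA
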